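import Cfsg.Agent.H646.NB.Cyclic
import Cfsg.Agent.H718.NBIH
import Cfsg.Agent.H469.RowRank
import Cfsg.Agent.H732.DegSz

/-!
# Nonprincipal `p`-blocks of the Suzuki groups, `p` odd (helper143)

The Sylow `p`-subgroups are cyclic (helper469) and there is a character of degree divisible by `p` (helper732);
`NB.of_cyclic_IM` (helper646).
-/

set_option autoImplicit false

namespace Cfsg.Agent.H143.NB.Sz

open Cfsg Cfsg.Agent.H7.NBp Cfsg.Agent.H718.NBIH

theorem nb_sz {p : ℕ} [hp : Fact p.Prime] (h2 : p ≠ 2) (S : Type) [Group S] [Finite S] [IsSimpleGroup S]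
    (h : Lie.IsoSuzuki S) (_ih : IH p (Nat.card S)) : NB p S := by
  by_cases hd : p ∣ Nat.card S
  · obtain ⟨P⟩ : Nonempty (Sylow p S) := inferInstance
    exact Cfsg.Agent.H646.NBCyclic.NB.of_cyclic_IM (Cfsg.Agent.H732.DegSz.im S h ‹_› hd) P
      (Cfsg.Agent.H469.RowRank.row_suzuki h2 h P)
  · exact NB.of_not_dvd hd

end Cfsg.Agent.H143.NB.Sz
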